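import Mathlib

/-!
Finite commutative rings with an involution `s` such that some `θ - s θ` is a unit: Hilbert 90 and
surjectivity of the norm.
-/

set_option autoImplicit false

namespace Cfsg.Agent.Lib.Classical.ConjForms

variable {R : Type*} [CommRing R] [Finite R] {s : R →+* R}

/-- an element of a finite commutative ring has a positive power that is idempotent -/
theorem exists_pow_idempotent (y : R) : ∃ k : ℕ, 0 < k ∧ y ^ k * y ^ k = y ^ k := by
  obtain ⟨m, n, hmn, h⟩ := Finite.exists_ne_map_eq_of_infinite (fun i : ℕ => y ^ i)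
  wlog hlt : m < n generalizing m n
  · exact this n m hmn.symm h.symm (by omega)
  set d := n - m with hd
  have hstep : ∀ i, m ≤ i → y ^ (i + d) = y ^ i := by
    intro i hi
    obtain ⟨j, rfl⟩ := Nat.exists_eq_add_of_le hi
    rw [show m + j + d = n + j by omega, pow_add, pow_add y m]
    exact congrArg (· * y ^ j) h.symm
  have hmul : ∀ t i, m ≤ i → y ^ (i + d * t) = y ^ i := by
    intro t
    induction t with
    | zero => intro i _; simp
    | succ t ih =>
      intro i hi
      rw [Nat.mul_succ, ← add_assoc, hstep _ (by omega), ih i hi]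
  refine ⟨d * (m + 1), Nat.mul_pos (by omega) (by omega), ?_⟩
  rw [← pow_add]
  exact hmul (m + 1) _ (le_trans (by omega) (Nat.le_mul_of_pos_left (m + 1) (by omega : 0 < d)))

/-- Hilbert 90 -/
theorem hilbert90 (hs : ∀ a, s (s a) = a) {θ : R} (hθ : IsUnit (θ - s θ)) {u : R} (hu : u * s u = 1) :
    ∃ c, IsUnit c ∧ u * s c = c := by
  set a := 1 + u with ha
  set b := θ + u * s θ with hb
  have hsa : s a = s u * a := by rw [ha, map_add, map_one]; linear_combination -hu
  obtain ⟨k, hk, he⟩ := exists_pow_idempotent (a * s a)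
  set e := (a * s a) ^ k with hedef
  have hse : s e = e := by rw [hedef, map_pow, map_mul, hs, mul_comm]
  refine ⟨e * a + (1 - e) * b, ?_, ?_⟩
  · by_contra hnu
    obtain ⟨m, hm, hmem⟩ := Ideal.exists_le_maximal _ (Ideal.span_singleton_ne_top hnu)
    have hc : e * a + (1 - e) * b ∈ m := hmem (Ideal.mem_span_singleton_self _)
    haveI := hm.isPrime
    by_cases hem : e ∈ m
    · have hmem2 : a * s a ∈ m := hm.isPrime.mem_of_pow_mem k (hedef ▸ hem)
      have ham : a ∈ m := by
        rcases hm.isPrime.mem_or_mem hmem2 with h | h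
        · exact h
        · have := m.mul_mem_left u h
          rwa [hsa, ← mul_assoc, hu, one_mul] at this
      have hbm : b ∈ m := by
        have : b = (e * a + (1 - e) * b) - e * a + e * b := by ring
        rw [this]
        exact m.add_mem (m.sub_mem hc (m.mul_mem_left _ ham)) (m.mul_mem_right _ hem)
      have : θ - s θ ∈ m := by
        have : θ - s θ = b - s θ * a := by rw [ha, hb]; ring
        rw [this]
        exact m.sub_mem hbm (m.mul_mem_left _ ham)
      exact hm.ne_top (Ideal.eq_top_of_isUnit_mem _ this hθ)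
    · have h1 : 1 - e ∈ m := by
        have : e * (1 - e) ∈ m := by
          rw [mul_sub, mul_one, he, sub_self]; exact m.zero_mem
        exact (hm.isPrime.mem_or_mem this).resolve_left hem
      have hea : e * a ∈ m := by
        have : e * a = (e * a + (1 - e) * b) - (1 - e) * b := by ring
        rw [this]
        exact m.sub_mem hc (m.mul_mem_right _ h1)
      have ham : a ∈ m := (hm.isPrime.mem_or_mem hea).resolve_left hem
      refine hem ?_
      rw [hedef]
      exact Ideal.pow_mem_of_mem m (m.mul_mem_right _ ham) k hk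
  · rw [map_add, map_mul, map_mul, hse, map_sub, map_one, hse, ha, hb, map_add, map_one, map_add, map_mul, hs]
    linear_combination (e + (1 - e) * θ) * hu

/-- every fixed unit is a norm -/
theorem exists_norm_eq (hs : ∀ a, s (s a) = a) {θ : R} (hθ : IsUnit (θ - s θ)) {c : R} (hc : s c = c)
    (hu : IsUnit c) : ∃ z, IsUnit z ∧ s z * z = c := by
  classical
  let sU : Rˣ →* Rˣ := Units.map s.toMonoidHom
  have hsU : ∀ a, sU (sU a) = a := fun a => Units.ext (hs _)
  let N : Rˣ →* Rˣ := sU * MonoidHom.id Rˣ
  let φ : Rˣ →* Rˣ := MonoidHom.id Rˣ / sU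
  let U0 : Subgroup Rˣ := φ.ker
  have hN : N.range ≤ U0 := by
    rintro _ ⟨a, rfl⟩
    show (sU a * a) / sU (sU a * a) = 1
    rw [map_mul, hsU, div_eq_one, mul_comm]
  have hφ : φ.range = N.ker := by
    ext u
    constructor
    · rintro ⟨a, rfl⟩
      show sU (a / sU a) * (a / sU a) = 1
      rw [map_div, hsU, div_mul_div_cancel, div_self']
    · intro h
      obtain ⟨v, hv, hve⟩ := hilbert90 hs hθ (u := (u : R)) (by
        have := congrArg Units.val (show sU u * u = 1 from h)
        rwa [Units.val_mul, Units.val_one, mul_comm] at this)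
      refine ⟨hv.unit, ?_⟩
      show hv.unit / sU hv.unit = u
      rw [div_eq_iff_eq_mul]
      exact Units.ext hve.symm
  have h1 : Nat.card N.range * Nat.card N.ker = Nat.card φ.range * Nat.card φ.ker := by
    rw [← Nat.card_congr (QuotientGroup.quotientKerEquivRange N).toEquiv,
      ← Nat.card_congr (QuotientGroup.quotientKerEquivRange φ).toEquiv,
      ← Subgroup.card_eq_card_quotient_mul_card_subgroup, ← Subgroup.card_eq_card_quotient_mul_card_subgroup]
  rw [hφ, mul_comm, mul_right_inj' Nat.card_pos.ne'] at h1
  have hmem : hu.unit ∈ N.range := by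
    rw [Subgroup.eq_of_le_of_card_ge hN h1.ge]
    show hu.unit / sU hu.unit = 1
    rw [div_eq_one]
    exact Units.ext hc.symm
  obtain ⟨z, hz⟩ := hmem
  exact ⟨z, z.isUnit, congrArg Units.val hz⟩

end Cfsg.Agent.Lib.Classical.ConjForms
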