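import Mathlib
import Cfsg.Agent.Lib.Classical.ConjForms.Norm

/-!
Norm and Hilbert 90 inside the subring generated by a commuting set stable under an anti-automorphism.
-/

set_option autoImplicit false

namespace Cfsg.Agent.Lib.Classical.ConjForms

variable {R : Type*} [Ring R]

/-- additive, unital, order-reversing on products -/
structure AntiHom (d : R → R) : Prop where
  add : ∀ x y, d (x + y) = d x + d y
  mul : ∀ x y, d (x * y) = d y * d x
  one : d 1 = 1

theorem AntiHom.zero {d : R → R} (h : AntiHom d) : d 0 = 0 := by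
  have := h.add 0 0; rw [add_zero] at this; exact left_eq_add.1 this

theorem AntiHom.neg {d : R → R} (h : AntiHom d) (x : R) : d (-x) = -d x := by
  have := h.add x (-x); rw [add_neg_cancel, h.zero] at this; exact eq_neg_of_add_eq_zero_right this.symm

theorem AntiHom.sub {d : R → R} (h : AntiHom d) (x y : R) : d (x - y) = d x - d y := by
  rw [sub_eq_add_neg, h.add, h.neg, ← sub_eq_add_neg]

/-- the data of a commuting stable generating set -/
structure CommStable (d : R → R) (S : Set R) : Prop where
  anti : AntiHom d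
  comm : ∀ x ∈ S, ∀ y ∈ S, x * y = y * x
  stable : ∀ x ∈ S, d x ∈ Subring.closure S
  invol : ∀ x ∈ S, d (d x) = x

theorem CommStable.mul_comm' {d : R → R} {S : Set R} (h : CommStable d S) {x y : R}
    (hx : x ∈ Subring.closure S) (hy : y ∈ Subring.closure S) : x * y = y * x := by
  letI := Subring.closureCommRingOfComm (s := S) h.comm
  exact congrArg Subtype.val (mul_comm (⟨x, hx⟩ : Subring.closure S) ⟨y, hy⟩)

theorem CommStable.mem {d : R → R} {S : Set R} (h : CommStable d S) {x : R}
    (hx : x ∈ Subring.closure S) : d x ∈ Subring.closure S := by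
  induction hx using Subring.closure_induction with
  | mem x hx => exact h.stable x hx
  | zero => rw [h.anti.zero]; exact zero_mem _
  | one => rw [h.anti.one]; exact one_mem _
  | add x y _ _ hx hy => rw [h.anti.add]; exact add_mem hx hy
  | neg x _ hx => rw [h.anti.neg]; exact neg_mem hx
  | mul x y _ _ hx hy => rw [h.anti.mul]; exact mul_mem hy hx

theorem CommStable.invol' {d : R → R} {S : Set R} (h : CommStable d S) {x : R}
    (hx : x ∈ Subring.closure S) : d (d x) = x := by
  induction hx using Subring.closure_induction with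
  | mem x hx => exact h.invol x hx
  | zero => rw [h.anti.zero, h.anti.zero]
  | one => rw [h.anti.one, h.anti.one]
  | add x y _ _ hx hy => rw [h.anti.add, h.anti.add, hx, hy]
  | neg x _ hx => rw [h.anti.neg, h.anti.neg, hx]
  | mul x y _ _ hx hy => rw [h.anti.mul, h.anti.mul, hx, hy]

theorem commute_closure {S : Set R} {x z : R} (h : ∀ y ∈ S, Commute y x) (hz : z ∈ Subring.closure S) :
    Commute z x :=
  ((Subring.closure_le (t := Subring.centralizer {x})).2 (fun y hy => Subring.mem_centralizer_iff.2
    (fun w hw => by rw [Set.mem_singleton_iff.1 hw]; exact (h y hy).eq.symm)) hz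
    |> Subring.mem_centralizer_iff.1) x rfl |>.symm

theorem isUnit_subring [Finite R] {T : Subring R} {x : R} (hx : x ∈ T) (hu : IsUnit x) :
    IsUnit (⟨x, hx⟩ : T) := by
  have hinj : Function.Injective fun y : T => (⟨x, hx⟩ : T) * y := fun a b hab =>
    Subtype.ext (hu.mul_left_cancel (congrArg Subtype.val hab))
  obtain ⟨y, hy⟩ := Finite.surjective_of_injective hinj 1
  exact IsUnit.of_mul_eq_one y hy

variable [Finite R] {d : R → R} {S : Set R}

theorem CommStable.exists_norm (h : CommStable d S) {θ : R} (hθS : θ ∈ Subring.closure S)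
    (hθ : IsUnit (θ - d θ)) {a : R} (haS : a ∈ Subring.closure S) (had : d a = a) (hau : IsUnit a) :
    ∃ z ∈ Subring.closure S, IsUnit z ∧ d z * z = a := by
  letI := Subring.closureCommRingOfComm (s := S) h.comm
  let s : Subring.closure S →+* Subring.closure S :=
    { toFun := fun x => ⟨d x.1, h.mem x.2⟩
      map_one' := Subtype.ext h.anti.one
      map_mul' := fun x y => Subtype.ext (by
        show d (x.1 * y.1) = d x.1 * d y.1
        rw [h.anti.mul, h.mul_comm' (h.mem y.2) (h.mem x.2)])
      map_zero' := Subtype.ext h.anti.zero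
      map_add' := fun x y => Subtype.ext (h.anti.add x.1 y.1) }
  obtain ⟨z, hz, he⟩ := exists_norm_eq (s := s) (fun x => Subtype.ext (h.invol' x.2))
    (θ := ⟨θ, hθS⟩) (isUnit_subring (sub_mem hθS (h.mem hθS)) hθ) (c := ⟨a, haS⟩) (Subtype.ext had)
    (isUnit_subring haS hau)
  exact ⟨z.1, z.2, hz.map (Subring.closure S).subtype, congrArg Subtype.val he⟩

theorem CommStable.exists_hilbert90 (h : CommStable d S) {θ : R} (hθS : θ ∈ Subring.closure S)
    (hθ : IsUnit (θ - d θ)) {u : R} (huS : u ∈ Subring.closure S) (hu : u * d u = 1) :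
    ∃ z ∈ Subring.closure S, IsUnit z ∧ d z * u = z := by
  letI := Subring.closureCommRingOfComm (s := S) h.comm
  let s : Subring.closure S →+* Subring.closure S :=
    { toFun := fun x => ⟨d x.1, h.mem x.2⟩
      map_one' := Subtype.ext h.anti.one
      map_mul' := fun x y => Subtype.ext (by
        show d (x.1 * y.1) = d x.1 * d y.1
        rw [h.anti.mul, h.mul_comm' (h.mem y.2) (h.mem x.2)])
      map_zero' := Subtype.ext h.anti.zero
      map_add' := fun x y => Subtype.ext (h.anti.add x.1 y.1) }
  obtain ⟨z, hz, he⟩ := hilbert90 (s := s) (fun x => Subtype.ext (h.invol' x.2))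
    (θ := ⟨θ, hθS⟩) (isUnit_subring (sub_mem hθS (h.mem hθS)) hθ) (u := ⟨u, huS⟩) (Subtype.ext hu)
  refine ⟨z.1, z.2, hz.map (Subring.closure S).subtype, ?_⟩
  rw [h.mul_comm' (h.mem z.2) huS]
  exact congrArg Subtype.val he

end Cfsg.Agent.Lib.Classical.ConjForms
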