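import Mathlib
import Cfsg.Agent.Lib.Classical.ConjForms.Closure

/-!
Semisimple isometries `x`, `y` conjugate in `GL`: the isometry between their `x² ≠ 1` parts.
-/

set_option autoImplicit false

namespace Cfsg.Agent.Lib.Classical.ConjForms

open Polynomial

theorem exists_pow_idempotent' {R : Type*} [Ring R] [Finite R] {S : Set R}
    (h : ∀ x ∈ S, ∀ y ∈ S, x * y = y * x) {y : R} (hy : y ∈ Subring.closure S) :
    ∃ k : ℕ, 0 < k ∧ y ^ k * y ^ k = y ^ k := by
  letI := Subring.closureCommRingOfComm (s := S) h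
  obtain ⟨k, hk, he⟩ := exists_pow_idempotent (⟨y, hy⟩ : Subring.closure S)
  exact ⟨k, hk, congrArg Subtype.val he⟩

/-- the norm on the corner cut out by an idempotent -/
theorem exists_norm_idem {R : Type*} [CommRing R] [Finite R] {s : R →+* R} (hs : ∀ a, s (s a) = a)
    {e θ w : R} (he : e * e = e) (hse : s e = e) (hθ : (θ - s θ) * w = e) {c v : R} (hc : s c = c)
    (hv : c * v = e) : ∃ z z' : R, z * z' = e ∧ s z * z = c * e ∧ z' * e = z' := by
  let I : Ideal R := Ideal.span {1 - e}
  have hI : ∀ a ∈ I, s a ∈ I := fun a ha => by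
    obtain ⟨b, rfl⟩ := Ideal.mem_span_singleton.1 ha
    exact Ideal.mem_span_singleton.2 ⟨s b, by rw [map_mul, map_sub, map_one, hse]⟩
  haveI : Finite (R ⧸ I) := Quotient.finite _
  let t : R ⧸ I →+* R ⧸ I := Ideal.quotientMap I s hI
  have ht : ∀ a, t (t a) = a := fun a => by
    obtain ⟨a, rfl⟩ := Ideal.Quotient.mk_surjective a
    show t (t (Ideal.Quotient.mk I a)) = _
    rw [show t (Ideal.Quotient.mk I a) = Ideal.Quotient.mk I (s a) from Ideal.quotientMap_mk,
      show t (Ideal.Quotient.mk I (s a)) = Ideal.Quotient.mk I (s (s a)) from Ideal.quotientMap_mk, hs]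
  have h1 : (Ideal.Quotient.mk I e) = 1 := by
    rw [← (Ideal.Quotient.mk I).map_one, eq_comm, Ideal.Quotient.eq]
    exact Ideal.mem_span_singleton_self _
  have hu : ∀ a b : R, a * b = e → IsUnit (Ideal.Quotient.mk I a) := fun a b hab =>
    IsUnit.of_mul_eq_one (Ideal.Quotient.mk I b) (by rw [← map_mul, hab, h1])
  obtain ⟨z, hz, hzc⟩ := exists_norm_eq (s := t) ht (θ := Ideal.Quotient.mk I θ)
    (by rw [show t (Ideal.Quotient.mk I θ) = Ideal.Quotient.mk I (s θ) from Ideal.quotientMap_mk, ← map_sub]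
        exact hu _ _ hθ)
    (c := Ideal.Quotient.mk I c)
    (by rw [show t (Ideal.Quotient.mk I c) = Ideal.Quotient.mk I (s c) from Ideal.quotientMap_mk, hc])
    (hu _ _ hv)
  obtain ⟨z', hz'⟩ := isUnit_iff_exists_inv.1 hz
  obtain ⟨a, rfl⟩ := Ideal.Quotient.mk_surjective z
  obtain ⟨a', rfl⟩ := Ideal.Quotient.mk_surjective z'
  rw [show t (Ideal.Quotient.mk I a) = Ideal.Quotient.mk I (s a) from Ideal.quotientMap_mk, ← map_mul,
    Ideal.Quotient.eq, Ideal.mem_span_singleton] at hzc
  rw [← map_mul, ← (Ideal.Quotient.mk I).map_one, Ideal.Quotient.eq, Ideal.mem_span_singleton] at hz'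
  obtain ⟨b, hb⟩ := hzc
  obtain ⟨b', hb'⟩ := hz'
  refine ⟨a * e, a' * e, ?_, ?_, ?_⟩
  · linear_combination (e * e) * hb' + he - e * b' * he
  · rw [map_mul, hse]
    linear_combination (e * e) * hb + c * he - e * b * he
  · linear_combination a' * he

variable {F V : Type*} [Field F] [AddCommGroup V] [Module F V]

/-- a non-degenerate bilinear form equal to `ε` times its transpose -/
structure EpsForm (B : LinearMap.BilinForm F V) (ε : F) : Prop where
  eps : ε * ε = 1
  symm : ∀ u v, B v u = ε * B u v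
  nondeg : B.Nondegenerate

variable {B : LinearMap.BilinForm F V} {ε : F} [FiniteDimensional F V]

theorem EpsForm.ext_left (h : EpsForm B ε) {u u' : V} (he : ∀ v, B u v = B u' v) : u = u' :=
  sub_eq_zero.1 (h.nondeg.1 _ fun v => by rw [map_sub, LinearMap.sub_apply, he, sub_self])

/-- the adjoint -/
noncomputable def EpsForm.adj (h : EpsForm B ε) (T : Module.End F V) : Module.End F V :=
  B.leftAdjointOfNondegenerate h.nondeg T

theorem EpsForm.adj_left (h : EpsForm B ε) (T : Module.End F V) (u v : V) :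
    B (h.adj T u) v = B u (T v) :=
  LinearMap.BilinForm.isAdjointPairLeftAdjointOfNondegenerate B h.nondeg T u v

theorem EpsForm.adj_right (h : EpsForm B ε) (T : Module.End F V) (u v : V) :
    B u (h.adj T v) = B (T u) v := by
  rw [h.symm (h.adj T v) u, h.adj_left, h.symm (T u) v, ← mul_assoc, h.eps, one_mul]

theorem EpsForm.adj_eq (h : EpsForm B ε) {T S : Module.End F V} (he : ∀ u v, B (S u) v = B u (T v)) :
    h.adj T = S := LinearMap.ext fun u => h.ext_left fun v => by rw [h.adj_left, he]

theorem EpsForm.anti (h : EpsForm B ε) : AntiHom h.adj where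
  add T S := h.adj_eq fun u v => by
    simp only [LinearMap.add_apply, map_add, h.adj_left]
  mul T S := h.adj_eq fun u v => by
    rw [Module.End.mul_apply, h.adj_left, h.adj_left, ← Module.End.mul_apply]
  one := h.adj_eq fun u v => rfl

theorem EpsForm.adj_adj (h : EpsForm B ε) (T : Module.End F V) : h.adj (h.adj T) = T :=
  h.adj_eq fun u v => (h.adj_right T u v).symm

theorem EpsForm.adj_isometry (h : EpsForm B ε) {x : Module.End F V} (hx : ∀ u v, B (x u) (x v) = B u v)
    {x' : Module.End F V} (hx' : x * x' = 1) : h.adj x = x' :=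
  h.adj_eq fun u v => by
    rw [← hx, ← Module.End.mul_apply, hx', Module.End.one_apply]

/-- semisimplicity: `(x² - 1)` kills whatever a power of it kills -/
theorem sq_sub_one_of_pow {r : ℕ} (hr : (r : F) ≠ 0) {x f : Module.End F V} (hx : x ^ r = 1)
    (h2 : (2 : F) ≠ 0 ∨ Odd r) {N : ℕ} (hf : (x * x - 1) ^ N * f = 0) : (x * x - 1) * f = 0 := by
  classical
  set P : F[X] := (X ^ 2 - 1 : F[X])
  set M : F[X] := (X ^ r - 1 : F[X])
  have hsep : M.Separable := by
    have := separable_X_pow_sub_C (F := F) (1 : F) hr one_ne_zero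
    simpa [M] using this
  set g := EuclideanDomain.gcd (P ^ N) M
  have hg : g ∣ P := by
    have hsf : Squarefree g := hsep.squarefree.squarefree_of_dvd (EuclideanDomain.gcd_dvd_right _ _)
    exact hsf.isRadical N P (EuclideanDomain.gcd_dvd_left _ _)
  obtain ⟨t, ht⟩ := hg
  have hb := EuclideanDomain.gcd_eq_gcd_ab (P ^ N) M
  have hP : aeval x P = x * x - 1 := by simp [P, sq]
  have hM : aeval x M = 0 := by simp [M, hx]
  have hgf : aeval x g * f = 0 := by
    rw [show g = _ from hb, map_add, map_mul, map_mul, hM, zero_mul, add_zero, map_pow, hP]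
    rw [show (x * x - 1) ^ N * aeval x (EuclideanDomain.gcdA (P ^ N) M)
        = aeval x (EuclideanDomain.gcdA (P ^ N) M) * (x * x - 1) ^ N by
      rw [← hP, ← map_pow, ← map_mul, ← map_mul, mul_comm], mul_assoc, hf, mul_zero]
  rw [← hP, ht, mul_comm, map_mul, mul_assoc, hgf, mul_zero]

/-- an odd power trick: `x² v = v` and `x ^ r v = v` with `r` odd give `x v = v` -/
theorem apply_eq_self_of_odd {r : ℕ} (hodd : Odd r) {x : Module.End F V} (hx : x ^ r = 1) {v : V}
    (h : x (x v) = v) : x v = v := by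
  obtain ⟨k, rfl⟩ := hodd
  have hk : ∀ i : ℕ, (x ^ (2 * i)) v = v := fun i => by
    induction i with
    | zero => simp
    | succ i ih =>
      rw [Nat.mul_succ, pow_add, sq, Module.End.mul_apply, Module.End.mul_apply, h, ih]
  have := congrArg (fun T : Module.End F V => T v) hx
  rw [pow_succ', Module.End.mul_apply, hk, Module.End.one_apply] at this
  exact this

/-- the isometry on the parts where `x² - 1` is invertible -/
theorem exists_isometry_on_range [Finite F] (h : EpsForm B ε) {r : ℕ} (hr : (r : F) ≠ 0)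
    (h2 : (2 : F) ≠ 0 ∨ Odd r) {x y : Module.End F V} (hxr : x ^ r = 1)
    (hx : ∀ u v, B (x u) (x v) = B u v) (hy : ∀ u v, B (y u) (y v) = B u v)
    (g : V ≃ₗ[F] V) (hg : ∀ v, g (x v) = y (g v)) :
    ∃ (e : Module.End F V) (S : Module.End F V),
      e * e = e ∧ h.adj e = e ∧ x * e = e * x ∧
      (x * x - 1) * (1 - e) = 0 ∧
      (∃ t, t * (x * x - 1) = e ∧ (x * x - 1) * t = e ∧ t * x = x * t) ∧
      (∀ u v, B (S (e u)) (S (e v)) = B (e u) (e v)) ∧
      (∀ v, S (x (e v)) = y (S (e v))) ∧
      (∀ v, ∃ u, S (e v) = y (y u) - u) ∧ (∀ v, S (e v) = S v) := by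
  classical
  haveI : Finite V := Module.finite_of_finite F
  haveI : Finite (Module.End F V) := Finite.of_injective _ DFunLike.coe_injective
  have hr0 : 0 < r := Nat.pos_of_ne_zero fun e => hr (by rw [e]; simp)
  obtain ⟨r, rfl⟩ : ∃ m, r = m + 1 := ⟨r - 1, by omega⟩
  have hxx : x * x ^ r = 1 := by rw [← pow_succ', hxr]
  have hx'x : x ^ r * x = 1 := by rw [← pow_succ, hxr]
  have hadjx : h.adj x = x ^ r := h.adj_isometry hx hxx
  set G : Module.End F V := g.toLinearMap with hG
  set a := h.adj G * G with hadef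
  have ha : h.adj a = a := by rw [hadef, h.anti.mul, h.adj_adj]
  have hax : a * x = x * a := by
    refine LinearMap.ext fun u => h.ext_left fun v => ?_
    obtain ⟨v, rfl⟩ : ∃ w, x w = v := ⟨(x ^ r) v, by rw [← Module.End.mul_apply, hxx]; rfl⟩
    simp only [Module.End.mul_apply, hx, hadef, h.adj_left]
    show B (g (x u)) (g (x v)) = B (g u) (g v)
    rw [hg, hg, hy]
  set S : Set (Module.End F V) := {x, a} with hSdef
  have hxS : x ∈ Subring.closure S := Subring.subset_closure (by simp [hSdef])
  have haS : a ∈ Subring.closure S := Subring.subset_closure (by simp [hSdef])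
  have hcs : CommStable h.adj S := by
    refine ⟨h.anti, ?_, ?_, fun T _ => h.adj_adj T⟩
    · rintro p (rfl | rfl) p' (rfl | rfl) <;> first | rfl | exact hax | exact hax.symm
    · rintro p (rfl | rfl)
      · rw [hadjx]; exact pow_mem hxS r
      · rw [ha]; exact haS
  letI := Subring.closureCommRingOfComm (s := S) hcs.comm
  let s : Subring.closure S →+* Subring.closure S :=
    { toFun := fun p => ⟨h.adj p.1, hcs.mem p.2⟩
      map_one' := Subtype.ext h.anti.one
      map_mul' := fun p p' => Subtype.ext (by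
        show h.adj (p.1 * p'.1) = h.adj p.1 * h.adj p'.1
        rw [h.anti.mul, hcs.mul_comm' (hcs.mem p'.2) (hcs.mem p.2)])
      map_zero' := Subtype.ext h.anti.zero
      map_add' := fun p p' => Subtype.ext (h.anti.add p.1 p'.1) }
  have hs : ∀ p, s (s p) = p := fun p => Subtype.ext (h.adj_adj p.1)
  let X : Subring.closure S := ⟨x, hxS⟩
  let A : Subring.closure S := ⟨a, haS⟩
  have hXr : X ^ (r + 1) = 1 := Subtype.ext hxr
  have hsX : s X = X ^ r := Subtype.ext hadjx
  obtain ⟨k, hk, hke⟩ := exists_pow_idempotent ((X - s X) * (X - s X))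
  set E : Subring.closure S := ((X - s X) * (X - s X)) ^ k with hE
  have hsE : s E = E := by rw [hE, map_pow, map_mul, map_sub, hs]; ring
  obtain ⟨k, rfl⟩ : ∃ j, k = j + 1 := ⟨k - 1, by omega⟩
  have hθ : (X - s X) * ((X - s X) * ((X - s X) * (X - s X)) ^ k) = E := by rw [hE, pow_succ]; ring
  have hau : IsUnit a := by
    refine IsUnit.mul ?_ ?_
    · refine IsUnit.of_mul_eq_one (h.adj g.symm.toLinearMap) ?_
      rw [← h.anti.mul, show g.symm.toLinearMap * G = 1 from LinearMap.ext fun v => g.symm_apply_apply v,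
        h.anti.one]
    · exact IsUnit.of_mul_eq_one g.symm.toLinearMap (LinearMap.ext fun v => g.apply_symm_apply v)
  obtain ⟨Ai, hAi⟩ := isUnit_iff_exists_inv.1 (isUnit_subring haS hau)
  obtain ⟨z, z', hzz, hzc, hz'E⟩ := exists_norm_idem hs hke hsE hθ (c := A) (Subtype.ext ha)
    (v := Ai * E) (by
      rw [← mul_assoc]
      rw [show A * Ai = 1 from hAi, one_mul])
  let W : Subring.closure S := X * X - 1
  have hXs : X - s X = X ^ r * W := by
    rw [hsX]
    linear_combination -X * hXr
  have hfin : (x * x - 1) * (1 - E.1) = 0 := by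
    refine sq_sub_one_of_pow (N := 2 * (k + 1)) hr hxr h2 ?_
    have : W ^ (2 * (k + 1)) * (1 - E) = 0 := by
      have h1 : W = X * (X - s X) := by rw [hXs, ← mul_assoc, ← pow_succ', hXr, one_mul]
      rw [h1, mul_pow, pow_mul (X - s X), sq, mul_assoc]
      rw [show ((X - s X) * (X - s X)) ^ (k + 1) * (1 - E) = 0 by
        rw [← hE, mul_sub, mul_one, hke, sub_self], mul_zero]
    exact congrArg Subtype.val this
  refine ⟨E.1, G * z'.1, congrArg Subtype.val hke, congrArg Subtype.val hsE,
    congrArg Subtype.val (mul_comm X E), hfin, ?_, fun u v => ?_, fun v => ?_, fun v => ?_, fun v => ?_⟩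
  · let T : Subring.closure S := X ^ r * ((X - s X) * ((X - s X) * (X - s X)) ^ k)
    have hT : T * W = E := by
      simp only [T]; rw [← hθ, hXs]; ring
    exact ⟨T.1, congrArg Subtype.val hT, congrArg Subtype.val ((mul_comm W T).trans hT),
      congrArg Subtype.val (mul_comm T X)⟩
  · show B (g (z'.1 (E.1 u))) (g (z'.1 (E.1 v))) = _
    have hkey : s (z' * E) * A * (z' * E) = E := by
      have h3 : s z * s z' = E := by rw [← map_mul, hzz, hsE]
      rw [map_mul, hsE]
      calc s z' * E * A * (z' * E) = s z' * (A * E) * (z' * E) := by ring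
        _ = (s z * s z') * (z * z') * E := by rw [← hzc]; ring
        _ = E := by rw [h3, hzz, hke, hke]
    have hkey' := congrArg Subtype.val hkey
    change h.adj (z'.1 * E.1) * a * (z'.1 * E.1) = E.1 at hkey'
    calc B (g (z'.1 (E.1 u))) (g (z'.1 (E.1 v)))
        = B ((h.adj (z'.1 * E.1) * a * (z'.1 * E.1)) u) v := by
          rw [Module.End.mul_apply, Module.End.mul_apply, h.adj_left, hadef, Module.End.mul_apply, h.adj_left]
          rfl
      _ = B (E.1 u) (E.1 v) := by
          have hEE : E.1 * E.1 = E.1 := congrArg Subtype.val hke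
          have hEs : h.adj E.1 = E.1 := congrArg Subtype.val hsE
          rw [hkey']
          conv_rhs => rw [← h.adj_left, hEs, ← Module.End.mul_apply, hEE]
  · show g (z'.1 (x (E.1 v))) = y (g (z'.1 (E.1 v)))
    rw [← hg]
    exact congrArg g (congrArg (fun T : Module.End F V => T (E.1 v)) (congrArg Subtype.val (mul_comm z' X)))
  · let T : Subring.closure S := X ^ r * ((X - s X) * ((X - s X) * (X - s X)) ^ k)
    refine ⟨g ((T.1 * z'.1) v), ?_⟩
    have hmain : z' * E = W * (T * z') := by
      simp only [T]; rw [← hθ, hXs]; ring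
    have h1 := congrArg (fun p : Module.End F V => g (p v)) (congrArg Subtype.val hmain)
    refine h1.trans ?_
    show g ((x * x - 1) ((T.1 * z'.1) v)) = _
    rw [LinearMap.sub_apply, map_sub, Module.End.mul_apply, hg, hg, Module.End.one_apply]
  · exact congrArg g (congrArg (fun p : Module.End F V => p v) (congrArg Subtype.val hz'E))

end Cfsg.Agent.Lib.Classical.ConjForms
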