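import Mathlib
import Cfsg.Agent.Lib.SympInv.Frame

/-!
Non-degenerate alternating forms of one dimension are isometric.
-/

set_option autoImplicit false

namespace Cfsg.Agent.Lib.Classical.ConjForms

open Cfsg.Agent.Lib.SympInv

variable {F V : Type*} [Field F] [AddCommGroup V] [Module F V] [FiniteDimensional F V]

theorem exists_full_frame_finrank {B : LinearMap.BilinForm F V} (hA : B.IsAlt) (hN : B.SeparatingLeft) :
    ∃ (k : ℕ) (e f : Fin k → V), IsFrame B e f ∧ Module.finrank F V = k + k := by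
  classical
  have hbound : ∀ k, ∀ e f : Fin k → V, IsFrame B e f → k + k ≤ Module.finrank F V := fun k e f h => by
    simpa using (frame_linearIndependent hA h).fintype_card_le_finrank
  let P : ℕ → Prop := fun k => ∃ e f : Fin k → V, IsFrame B e f
  have h0 : P 0 := ⟨Fin.elim0, Fin.elim0, fun i => i.elim0, fun i => i.elim0, fun i => i.elim0⟩
  have hk : P (Nat.findGreatest P (Module.finrank F V)) :=
    Nat.findGreatest_spec (P := P) (Nat.zero_le _) h0
  have hmax : ∀ k, P k → k ≤ Nat.findGreatest P (Module.finrank F V) := fun k hPk => by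
    obtain ⟨e, f, h⟩ := hPk
    exact Nat.le_findGreatest (by have := hbound k e f h; omega) ⟨e, f, h⟩
  set k := Nat.findGreatest P (Module.finrank F V)
  obtain ⟨e, f, h⟩ := hk
  refine ⟨k, e, f, h, le_antisymm ?_ (hbound k e f h)⟩
  by_contra hlt
  obtain ⟨x, hx0, hx⟩ := exists_perp_ne_zero (B := B) e f (by omega)
  obtain ⟨b, hb⟩ : ∃ b, B x b ≠ 0 := by
    by_contra hne
    push Not at hne
    exact hx0 (hN x hne)
  set b' := (B x b)⁻¹ • b with hb'
  have hperp := fun i => frameProj_perp hA h b' i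
  have hxb : B x (frameProj B e f b') = 1 := by
    simp [frameProj, map_sum, hx, hb', hb]
  obtain ⟨e2, f2, h2, -⟩ := exists_full_frame (B := B) hA (m := k + 1) (fun _ _ => True) (fun j hj e' f' h' _ => by
    by_cases hjk : j + j < Module.finrank F V
    · obtain ⟨x, hx0, hx⟩ := exists_perp_ne_zero (B := B) e' f' hjk
      obtain ⟨b, hb⟩ : ∃ b, B x b ≠ 0 := by
        by_contra hne
        push Not at hne
        exact hx0 (hN x hne)
      have hp := fun i => frameProj_perp hA h' ((B x b)⁻¹ • b) i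
      exact ⟨x, frameProj B e' f' ((B x b)⁻¹ • b), trivial, by simp [frameProj, map_sum, hx, hb],
        fun i => ⟨(hx i).1, (hx i).2, (hp i).1, (hp i).2⟩⟩
    · omega)
  have := hmax (k + 1) ⟨e2, f2, h2⟩
  omega

/-- an isometry between non-degenerate subspaces of equal dimension -/
theorem exists_isometry_subspace {B : LinearMap.BilinForm F V} (hA : B.IsAlt) (U U' : Submodule F V)
    (hU : ∀ u ∈ U, (∀ v ∈ U, B u v = 0) → u = 0) (hU' : ∀ u ∈ U', (∀ v ∈ U', B u v = 0) → u = 0)
    (hdim : Module.finrank F U = Module.finrank F U') :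
    ∃ T : U →ₗ[F] V, (∀ u, T u ∈ U') ∧ ∀ a b : U, B (T a) (T b) = B (a : V) (b : V) := by
  have hA1 : (B.restrict U).IsAlt := fun u => hA u.1
  have hA2 : (B.restrict U').IsAlt := fun u => hA u.1
  obtain ⟨k, e, f, h, hk⟩ := exists_full_frame_finrank hA1
    (fun u hu => Subtype.ext (hU u.1 u.2 fun v hv => hu ⟨v, hv⟩))
  obtain ⟨k', e', f', h', hk'⟩ := exists_full_frame_finrank hA2
    (fun u hu => Subtype.ext (hU' u.1 u.2 fun v hv => hu ⟨v, hv⟩))
  obtain rfl : k' = k := by omega
  let E := (frameBasis hA1 h hk).equiv (frameBasis hA2 h' hk') (Equiv.refl _)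
  refine ⟨U'.subtype.comp E.toLinearMap, fun u => (E u).2, fun a b => ?_⟩
  have : (B.restrict U').compl₁₂ E.toLinearMap E.toLinearMap = B.restrict U := by
    refine LinearMap.ext_basis (frameBasis hA1 h hk) (frameBasis hA1 h hk) fun i j => ?_
    simp only [LinearMap.compl₁₂_apply, LinearEquiv.coe_coe, E]
    rw [Module.Basis.equiv_apply, Module.Basis.equiv_apply]
    simp only [Equiv.refl_apply, coe_frameBasis]
    rcases i with i | i <;> rcases j with j | j
    · simp only [Sum.elim_inl, h.ee, h'.ee]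
    · simp only [Sum.elim_inl, Sum.elim_inr, h.ef, h'.ef]
    · simp only [Sum.elim_inl, Sum.elim_inr]
      rw [← LinearMap.IsAlt.neg hA1 (e j), ← LinearMap.IsAlt.neg hA2 (e' j), h.ef, h'.ef]
    · simp only [Sum.elim_inr, h.ff, h'.ff]
  exact LinearMap.congr_fun (LinearMap.congr_fun this a) b

end Cfsg.Agent.Lib.Classical.ConjForms
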