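import Mathlib
import Cfsg.Agent.Lib.Classical.ConjForms.Adjoint
import Cfsg.Agent.Lib.Forms.Witt
import Cfsg.Agent.Lib.Forms.Bridge

/-!
Semisimple isometries of odd order conjugate in `GL` are conjugate in the orthogonal group.
-/

set_option autoImplicit false

namespace Cfsg.Agent.Lib.Classical.ConjForms

open Matrix

variable {F V : Type*} [Field F] [Finite F] [AddCommGroup V] [Module F V] [FiniteDimensional F V]

theorem exists_orth_intertwiner {Q : QuadraticForm F V} (hQ : (QuadraticMap.polarBilin Q).Nondegenerate)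
    {r : ℕ} (hr : (r : F) ≠ 0) (hodd : Odd r) {x y : Module.End F V} (hxr : x ^ r = 1) (hyr : y ^ r = 1)
    (hx : ∀ v, Q (x v) = Q v) (hy : ∀ v, Q (y v) = Q v) (g : V ≃ₗ[F] V) (hg : ∀ v, g (x v) = y (g v)) :
    ∃ T : V ≃ₗ[F] V, (∀ v, Q (T v) = Q v) ∧ ∀ v, T (x v) = y (T v) := by
  classical
  let B : LinearMap.BilinForm F V := QuadraticMap.polarBilin Q
  have hB : ∀ u v, B u v = Q (u + v) - Q u - Q v := fun u v => rfl
  have hpol : ∀ (p : Module.End F V), (∀ v, Q (p v) = Q v) → ∀ u v, B (p u) (p v) = B u v := fun p hp u v => by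
    rw [hB, hB, ← map_add, hp, hp, hp]
  have h : EpsForm B (1 : F) :=
    ⟨one_mul 1, fun u v => by rw [one_mul, hB, hB, add_comm v u]; ring, hQ⟩
  obtain ⟨e, S, hee, hade, hxe, hwf, ⟨t, ht, ht', htx⟩, hSiso, hSx, hSrange, -⟩ :=
    exists_isometry_on_range h hr (Or.inr hodd) hxr (hpol x hx) (hpol y hy) g hg
  have hee' : ∀ v, e (e v) = e v := fun v => by rw [← Module.End.mul_apply, hee]
  have hxe' : ∀ v, e (x v) = x (e v) := fun v => by rw [← Module.End.mul_apply, ← hxe, Module.End.mul_apply]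
  let ψ : V → F := fun v => Q (S (e v)) - Q (e v)
  have hadd : ∀ a b, ψ (a + b) = ψ a + ψ b := fun a b => by
    have h1 := hSiso a b
    rw [hB, hB] at h1
    simp only [ψ, map_add]
    linear_combination h1
  have hinv : ∀ v, ψ (x v) = ψ v := fun v => by
    simp only [ψ, hxe', hSx, hx, hy]
  have hSQ : ∀ v, Q (S (e v)) = Q (e v) := by
    intro v
    have h1 : ψ (e v) = ψ v := by simp only [ψ, hee']
    have h2 : ψ (e v) = 0 := by
      rw [show e v = x (x (t v)) - t v from (congrArg (fun T : Module.End F V => T v) ht').symm]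
      have := hadd (x (x (t v)) - t v) (t v)
      rw [sub_add_cancel, hinv, hinv] at this
      exact (add_eq_right (a := ψ (x (x (t v)) - t v)) (b := ψ (t v))).1 this.symm
    exact sub_eq_zero.1 (h1.symm.trans h2)
  have hSinj : ∀ v, S (e v) = 0 → e v = 0 := by
    intro v hv
    refine h.nondeg.1 _ fun w => ?_
    have h1 := hSiso v w
    rw [hv, map_zero, LinearMap.zero_apply] at h1
    rw [← h.adj_left, hade, hee'] at h1
    exact h1.symm
  let φ : LinearMap.range e →ₗ[F] V := S.domRestrict (LinearMap.range e)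
  have hφ : Function.Injective φ := by
    rw [← LinearMap.ker_eq_bot, LinearMap.ker_eq_bot']
    rintro ⟨_, v, rfl⟩ hv
    exact Subtype.ext (hSinj v hv)
  obtain ⟨T, hTQ, hTS⟩ := Forms.witt_quad hQ φ hφ (fun a => by
    obtain ⟨_, v, rfl⟩ := a; exact hSQ v)
  have hTe : ∀ v, T (e v) = S (e v) := fun v => hTS ⟨e v, v, rfl⟩
  have hrange : LinearMap.range (S * e) = LinearMap.range (y * y - 1) := by
    refine Submodule.eq_of_le_of_finrank_le ?_ ?_
    · rintro _ ⟨v, rfl⟩
      obtain ⟨u, hu⟩ := hSrange v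
      exact ⟨u, hu.symm⟩
    · have e1 : Module.finrank F (LinearMap.range e) = Module.finrank F (LinearMap.range (x * x - 1)) := by
        rw [show LinearMap.range e = LinearMap.range (x * x - 1) from le_antisymm
          (by rw [← ht']; exact LinearMap.range_comp_le_range _ _)
          (by
            rintro _ ⟨v, rfl⟩
            refine ⟨(x * x - 1) v, ?_⟩
            have hc := congrArg (fun T : Module.End F V => T v) hwf
            simp only [Module.End.mul_apply, LinearMap.sub_apply, Module.End.one_apply, LinearMap.zero_apply,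
              map_sub] at hc ⊢
            rw [hxe', hxe']
            linear_combination (norm := module) -hc)]
      have e2 : Module.finrank F (LinearMap.range (x * x - 1)) = Module.finrank F (LinearMap.range (y * y - 1)) := by
        refine LinearEquiv.finrank_eq (g.ofSubmodules _ _ ?_)
        rw [← LinearMap.range_comp, show g.toLinearMap ∘ₗ (x * x - 1) = (y * y - 1) ∘ₗ g.toLinearMap from
          LinearMap.ext fun v => by simp [hg], LinearMap.range_comp, LinearEquiv.range, Submodule.map_top]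
      rw [← e2, ← e1, ← LinearMap.finrank_range_of_inj hφ]
      refine Submodule.finrank_mono ?_
      rintro _ ⟨⟨_, v, rfl⟩, rfl⟩
      exact ⟨v, rfl⟩
  have hyy : ∀ u, ∃ w, y (y w) = u := fun u => by
    obtain ⟨k, hk⟩ := hodd
    refine ⟨(y ^ (k + k + (2 * k))) u, ?_⟩
    rw [← Module.End.mul_apply, ← Module.End.mul_apply, ← sq, ← pow_add,
      show 2 + (k + k + 2 * k) = r + r by omega, pow_add, hyr, one_mul, Module.End.one_apply]
  have hTf : ∀ v, y (T (v - e v)) = T (v - e v) := by
    intro v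
    refine apply_eq_self_of_odd hodd hyr (h.ext_left fun u => ?_)
    obtain ⟨w, rfl⟩ := hyy u
    rw [hpol y hy, hpol y hy]
    obtain ⟨s, hs⟩ := (hrange ▸ ⟨w, rfl⟩ : (y * y - 1) w ∈ LinearMap.range (S * e))
    have hTB : ∀ a b, B (T a) (T b) = B a b := fun a b => hpol T.toLinearMap hTQ a b
    rw [show y (y w) = S (e s) + w from sub_eq_iff_eq_add.1 hs.symm, map_add, ← hTe, hTB]
    rw [← h.adj_left, hade, show e (v - e v) = 0 by rw [map_sub, hee', sub_self], map_zero, LinearMap.zero_apply,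
      zero_add]
  refine ⟨T, hTQ, fun v => ?_⟩
  have hf : x (v - e v) = v - e v := apply_eq_self_of_odd hodd hxr (by
    have := congrArg (fun T : Module.End F V => T v) hwf
    simp only [Module.End.mul_apply, LinearMap.sub_apply, Module.End.one_apply, LinearMap.zero_apply] at this
    exact sub_eq_zero.1 this)
  calc T (x v) = T (e (x v) + x (v - e v)) := by rw [map_sub, hxe', add_sub_cancel]
    _ = T (e (x v)) + T (v - e v) := by rw [hf, map_add]
    _ = y (T (e v)) + y (T (v - e v)) := by rw [hTe, hxe', hSx, ← hTe, hTf]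
    _ = y (T v) := by rw [← map_add, ← map_add, add_sub_cancel]

theorem isConj_isometryGroup_iff {p : ℕ} [Fact p.Prime] [CharP F p] {n : ℕ}
    (Q : QuadraticForm F (Fin n → F)) (hQ : (QuadraticMap.polarBilin Q).Nondegenerate)
    (A A' : ↥(Cfsg.isometryGroup F ⇑Q)) (hodd : Odd (orderOf A)) (hA : (orderOf A).Coprime p) :
    IsConj A A' ↔ IsConj ((A : Matrix.GeneralLinearGroup (Fin n) F) : Matrix (Fin n) (Fin n) F)
      ((A' : Matrix.GeneralLinearGroup (Fin n) F) : Matrix (Fin n) (Fin n) F) := by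
  classical
  refine ⟨fun h => ((Units.coeHom _).comp (Cfsg.isometryGroup F ⇑Q).subtype).map_isConj h, fun h => ?_⟩
  obtain ⟨c, hc⟩ := h
  have hr : ((orderOf A : ℕ) : F) ≠ 0 := fun e => by
    rw [CharP.cast_eq_zero_iff F p] at e
    exact (Fact.out : p.Prime).one_lt.ne' (Nat.eq_one_of_dvd_coprimes hA e dvd_rfl)
  have hord : ((A : Matrix.GeneralLinearGroup (Fin n) F) : Matrix (Fin n) (Fin n) F) ^ orderOf A = 1 :=
    congrArg (fun g : Cfsg.isometryGroup F ⇑Q => ((g : Matrix.GeneralLinearGroup (Fin n) F) : Matrix (Fin n) (Fin n) F))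
      (pow_orderOf_eq_one A)
  have hord' : ((A' : Matrix.GeneralLinearGroup (Fin n) F) : Matrix (Fin n) (Fin n) F) ^ orderOf A = 1 := by
    have := hc.pow_right (orderOf A)
    rw [hord] at this
    exact c.isUnit.mul_right_cancel (this.eq.symm.trans (mul_one _) |>.trans (one_mul _).symm)
  let g : (Fin n → F) ≃ₗ[F] (Fin n → F) := Forms.glEquiv (Fin n) F c
  obtain ⟨T, hT, hTx⟩ := exists_orth_intertwiner (Q := Q) hQ hr hodd
    (x := Matrix.toLin' ((A : Matrix.GeneralLinearGroup (Fin n) F) : Matrix (Fin n) (Fin n) F))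
    (y := Matrix.toLin' ((A' : Matrix.GeneralLinearGroup (Fin n) F) : Matrix (Fin n) (Fin n) F))
    (by rw [← Matrix.toLin'_pow, hord, Matrix.toLin'_one]; rfl)
    (by rw [← Matrix.toLin'_pow, hord', Matrix.toLin'_one]; rfl)
    (fun v => by rw [Matrix.toLin'_apply]; exact Forms.mem_isometryGroup_iff.1 A.2 v)
    (fun v => by rw [Matrix.toLin'_apply]; exact Forms.mem_isometryGroup_iff.1 A'.2 v) g (fun v => by
      show (c : Matrix (Fin n) (Fin n) F) *ᵥ (_ *ᵥ v) = _ *ᵥ ((c : Matrix (Fin n) (Fin n) F) *ᵥ v)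
      rw [Matrix.mulVec_mulVec, Matrix.mulVec_mulVec, hc.eq])
  refine isConj_iff.2 ⟨Forms.isoMk T hT, mul_inv_eq_iff_eq_mul.2 (Subtype.ext (Units.ext
    (Matrix.ext_iff_mulVec.mpr fun v => ?_)))⟩
  have hv : ∀ w, (((Forms.isoMk T hT : Cfsg.isometryGroup F ⇑Q) : Matrix.GeneralLinearGroup (Fin n) F) :
      Matrix (Fin n) (Fin n) F) *ᵥ w = T w := fun w => Forms.glEquiv_symm_mulVec T w
  show ((((Forms.isoMk T hT : Cfsg.isometryGroup F ⇑Q) : Matrix.GeneralLinearGroup (Fin n) F) :
      Matrix (Fin n) (Fin n) F) * _) *ᵥ v = (_ * (((Forms.isoMk T hT : Cfsg.isometryGroup F ⇑Q) :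
      Matrix.GeneralLinearGroup (Fin n) F) : Matrix (Fin n) (Fin n) F)) *ᵥ v
  rw [← Matrix.mulVec_mulVec, ← Matrix.mulVec_mulVec, hv, hv]
  exact hTx v

end Cfsg.Agent.Lib.Classical.ConjForms
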