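import Mathlib
import Cfsg.Agent.Lib.Classical.ConjForms.Adjoint
import Cfsg.Agent.Lib.Classical.ConjForms.AltUnique
import Cfsg.Agent.Lib.Forms.Symplectic

/-!
Semisimple symplectic isometries conjugate in `GL` are conjugate in `Sp`.
-/

set_option autoImplicit false

namespace Cfsg.Agent.Lib.Classical.ConjForms

open Matrix

variable {F V : Type*} [Field F] [Finite F] [AddCommGroup V] [Module F V] [FiniteDimensional F V]

theorem exists_symp_intertwiner {B : LinearMap.BilinForm F V} (hA : B.IsAlt) (hN : B.Nondegenerate)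
    {r : ℕ} (hr : (r : F) ≠ 0) {x y : Module.End F V} (hxr : x ^ r = 1) (hyr : y ^ r = 1)
    (hx : ∀ u v, B (x u) (x v) = B u v) (hy : ∀ u v, B (y u) (y v) = B u v)
    (g : V ≃ₗ[F] V) (hg : ∀ v, g (x v) = y (g v)) :
    ∃ T : Module.End F V, (∀ u v, B (T u) (T v) = B u v) ∧ ∀ v, T (x v) = y (T v) := by
  classical
  have h : EpsForm B (-1 : F) := ⟨by ring, fun u v => by rw [← LinearMap.IsAlt.neg hA u v, neg_one_mul], hN⟩
  have h2 : (2 : F) ≠ 0 ∨ Odd r := by
    by_cases e : (2 : F) = 0
    · right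
      rw [← Nat.not_even_iff_odd]
      rintro ⟨k, rfl⟩
      exact hr (by rw [← two_mul, Nat.cast_mul, Nat.cast_two, e, zero_mul])
    · exact Or.inl e
  obtain ⟨e, S, hee, hade, hxe, hwf, ⟨t, ht, ht', htx⟩, hSiso, hSx, hSrange, -⟩ :=
    exists_isometry_on_range h hr h2 hxr hx hy g hg
  have hee' : ∀ v, e (e v) = e v := fun v => by rw [← Module.End.mul_apply, hee]
  have hxe' : ∀ v, e (x v) = x (e v) := fun v => by rw [← Module.End.mul_apply, ← hxe, Module.End.mul_apply]
  have hf : ∀ v, x (x (v - e v)) = v - e v := fun v => by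
    have := congrArg (fun T : Module.End F V => T v) hwf
    simp only [Module.End.mul_apply, LinearMap.sub_apply, Module.End.one_apply, LinearMap.zero_apply] at this
    exact sub_eq_zero.1 this
  -- a range of `y² - 1` and a kernel are orthogonal
  have horth : ∀ (p : Module.End F V), (∀ u v, B (p u) (p v) = B u v) → ∀ u v, p (p v) = v →
      B (p (p u) - u) v = 0 := by
    intro p hp u v hv
    conv_lhs => rw [map_sub, LinearMap.sub_apply, ← hv, hp, hp, hv, sub_self]
  have hcross : ∀ (p : Module.End F V), (∀ u v, B (p u) (p v) = B u v) → (2 : F) ≠ 0 → ∀ u v, p u = u →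
      p v = -v → B u v = 0 := by
    intro p hp h2 u v hu hv
    have := hp u v
    rw [hu, hv, map_neg] at this
    exact (mul_eq_zero.1 (show (2 : F) * B u v = 0 by linear_combination -this)).resolve_left h2
  -- the projections onto the eigenspaces inside `(1 - e) V`
  have key : ∃ P M : Module.End F V, (∀ v, v = e v + P v + M v) ∧ (∀ v, x (P v) = P v) ∧
      (∀ v, x (M v) = -M v) ∧ (∀ v, e (P v) = 0) ∧ (∀ v, e (M v) = 0) ∧
      (∀ v, P (x v) = P v) ∧ (∀ v, M (x v) = -M v) ∧ ((2 : F) = 0 → ∀ v, M v = 0) := by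
    rcases h2 with h2 | hodd
    · refine ⟨(2 : F)⁻¹ • ((1 + x) * (1 - e)), (2 : F)⁻¹ • ((1 - x) * (1 - e)), fun v => ?_, fun v => ?_,
        fun v => ?_, fun v => ?_, fun v => ?_, fun v => ?_, fun v => ?_, fun e' => absurd e' h2⟩
      · simp only [LinearMap.smul_apply, Module.End.mul_apply, LinearMap.add_apply, LinearMap.sub_apply,
          Module.End.one_apply]
        match_scalars <;> field_simp <;> ring
      all_goals simp only [LinearMap.smul_apply, Module.End.mul_apply, LinearMap.add_apply, LinearMap.sub_apply,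
        Module.End.one_apply, map_smul]
      · have := hf v
        simp only [map_add, map_sub] at this ⊢
        rw [this]; module
      · have := hf v
        simp only [map_add, map_sub] at this ⊢
        rw [this]; module
      · simp only [map_add, map_sub, hxe', hee']; module
      · simp only [map_add, map_sub, hxe', hee']; module
      · have := hf v
        simp only [map_add, map_sub, hxe'] at this ⊢
        rw [this]; module
      · have := hf v
        simp only [map_add, map_sub, hxe'] at this ⊢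
        rw [this]; module
    · have hfix : ∀ v, x (v - e v) = v - e v := fun v => apply_eq_self_of_odd hodd hxr (hf v)
      refine ⟨1 - e, 0, fun v => by simp, fun v => hfix v, fun v => by simp, fun v => by simp [hee'],
        fun v => by simp, fun v => ?_, fun v => by simp, fun _ v => rfl⟩
      show x v - e (x v) = v - e v
      rw [hxe', ← map_sub]
      exact hfix v
  obtain ⟨P, M, hdec, hP, hM, heP, heM, hPx, hMx, hMzero⟩ := key
  -- eigenspaces and their isometries
  have heE : ∀ v, e v = x (x (t v)) - t v := fun v => (congrArg (fun T : Module.End F V => T v) ht').symm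
  have hBe : ∀ v u, x (x u) = u → B (e v) u = 0 := fun v u hu => by rw [heE]; exact horth x hx _ _ hu
  have hBe' : ∀ v u, y (y u) = u → B (S (e v)) u = 0 := fun v u hu => by
    obtain ⟨w, hw⟩ := hSrange v
    rw [hw]
    exact horth y hy _ _ hu
  let U1 := LinearMap.ker (x - 1)
  let U2 := LinearMap.ker (x + 1)
  let U1' := LinearMap.ker (y - 1)
  let U2' := LinearMap.ker (y + 1)
  have memU1 : ∀ {v}, v ∈ U1 ↔ x v = v := fun {v} => by simp [U1, sub_eq_zero]
  have memU2 : ∀ {v}, v ∈ U2 ↔ x v = -v := fun {v} => by simp [U2, add_eq_zero_iff_eq_neg]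
  have memU1' : ∀ {v}, v ∈ U1' ↔ y v = v := fun {v} => by simp [U1', sub_eq_zero]
  have memU2' : ∀ {v}, v ∈ U2' ↔ y v = -v := fun {v} => by simp [U2', add_eq_zero_iff_eq_neg]
  have hdim1 : Module.finrank F U1 = Module.finrank F U1' := by
    refine LinearEquiv.finrank_eq (g.ofSubmodules U1 U1' ?_)
    ext v
    rw [Submodule.mem_map]
    constructor
    · rintro ⟨u, hu, rfl⟩
      rw [memU1', show (g.toLinearMap u) = g u from rfl, ← hg, memU1.1 hu]
    · intro hv
      refine ⟨g.symm v, memU1.2 (g.injective ?_), g.apply_symm_apply v⟩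
      rw [hg, g.apply_symm_apply, memU1'.1 hv]
  have hdim2 : Module.finrank F U2 = Module.finrank F U2' := by
    refine LinearEquiv.finrank_eq (g.ofSubmodules U2 U2' ?_)
    ext v
    rw [Submodule.mem_map]
    constructor
    · rintro ⟨u, hu, rfl⟩
      rw [memU2', show (g.toLinearMap u) = g u from rfl, ← hg, memU2.1 hu, map_neg]
    · intro hv
      refine ⟨g.symm v, memU2.2 (g.injective ?_), g.apply_symm_apply v⟩
      rw [hg, g.apply_symm_apply, memU2'.1 hv, map_neg, g.apply_symm_apply]
  -- non-degeneracy of the eigenspaces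
  have hnd : ∀ (p : Module.End F V) (_ : p ^ r = 1) (_ : ∀ u v, B (p u) (p v) = B u v) (c : F) (_ : c * c = 1),
      ∀ u, p u = c • u → (∀ v, p v = c • v → B u v = 0) → u = 0 := by
    intro p hpr hp c hc u hu hperp
    obtain ⟨e, -, hee, -, hpe, hwf, ⟨t, -, ht', -⟩, -⟩ := exists_isometry_on_range h hr h2 hpr hp hp
      (LinearEquiv.refl F V) (fun _ => rfl)
    refine hN.1 u fun v => ?_
    have hpp : p (p u) = u := by rw [hu, map_smul, hu, smul_smul, hc, one_smul]
    have hsplit : v = e v + (v - e v) := by abel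
    have hev : B u (e v) = 0 := by
      rw [show e v = p (p (t v)) - t v from (congrArg (fun T : Module.End F V => T v) ht').symm,
        ← LinearMap.IsAlt.neg hA, horth p hp _ _ hpp, neg_zero]
    have hfv : p (p (v - e v)) = v - e v := by
      have := congrArg (fun T : Module.End F V => T v) hwf
      simp only [Module.End.mul_apply, LinearMap.sub_apply, Module.End.one_apply, LinearMap.zero_apply] at this
      exact sub_eq_zero.1 this
    rw [hsplit, map_add, hev, zero_add]
    by_cases e2 : (2 : F) = 0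
    · have hc1 : c = 1 := by
        have : (c - 1) * (c - 1) = 0 := by linear_combination hc - (c - 1) * e2
        simpa [sub_eq_zero] using this
      subst hc1
      refine hperp _ ?_
      rw [one_smul]
      exact apply_eq_self_of_odd (h2.resolve_left (not_not.2 e2)) hpr hfv
    · set w := v - e v
      have h1 : p (w + c • p w) = c • (w + c • p w) := by
        rw [map_add, map_smul, hfv, smul_add, smul_smul, hc, one_smul, add_comm]
      have h3 : B u (w - c • p w) = 0 := by
        have := hp u w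
        rw [hu, map_smul, LinearMap.smul_apply, smul_eq_mul] at this
        rw [map_sub, map_smul, smul_eq_mul, this, sub_self]
      have h4 := hperp _ h1
      rw [map_add] at h4
      rw [map_sub] at h3
      exact (mul_eq_zero.1 (show (2 : F) * B u w = 0 by linear_combination h4 + h3)).resolve_left e2
  have nd : ∀ (p : Module.End F V) (_ : p ^ r = 1) (_ : ∀ u v, B (p u) (p v) = B u v),
      (∀ u ∈ LinearMap.ker (p - 1), (∀ v ∈ LinearMap.ker (p - 1), B u v = 0) → u = 0) ∧
      (∀ u ∈ LinearMap.ker (p + 1), (∀ v ∈ LinearMap.ker (p + 1), B u v = 0) → u = 0) := by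
    intro p hpr hp
    constructor
    · intro u hu hperp
      refine hnd p hpr hp 1 (one_mul _) u ?_ fun v hv => hperp v ?_
      · simpa [sub_eq_zero] using hu
      · simpa [sub_eq_zero] using hv
    · intro u hu hperp
      refine hnd p hpr hp (-1) (by ring) u ?_ fun v hv => hperp v ?_
      · simpa [add_eq_zero_iff_eq_neg] using hu
      · simpa [add_eq_zero_iff_eq_neg] using hv
  obtain ⟨T1, hT1, hT1iso⟩ := exists_isometry_subspace hA U1 U1' (nd x hxr hx).1 (nd y hyr hy).1 hdim1
  obtain ⟨T2, hT2, hT2iso⟩ := exists_isometry_subspace hA U2 U2' (nd x hxr hx).2 (nd y hyr hy).2 hdim2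
  let P' : V →ₗ[F] U1 := P.codRestrict U1 fun v => memU1.2 (hP v)
  let M' : V →ₗ[F] U2 := M.codRestrict U2 fun v => memU2.2 (hM v)
  refine ⟨S * e + T1 ∘ₗ P' + T2 ∘ₗ M', fun u v => ?_, fun v => ?_⟩
  · simp only [LinearMap.add_apply, Module.End.mul_apply, LinearMap.comp_apply]
    have hy1 : ∀ v, y (T1 (P' v)) = T1 (P' v) := fun v => memU1'.1 (hT1 _)
    have hy2 : ∀ v, y (T2 (M' v)) = -T2 (M' v) := fun v => memU2'.1 (hT2 _)
    have s1 : ∀ v w, B (S (e v)) (T1 (P' w)) = 0 := fun v w => hBe' v _ (by rw [hy1, hy1])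
    have s2 : ∀ v w, B (S (e v)) (T2 (M' w)) = 0 := fun v w => hBe' v _ (by rw [hy2, map_neg, hy2, neg_neg])
    have r1 : ∀ v w, B (e v) (P w) = 0 := fun v w => hBe v _ (by rw [hP, hP])
    have r2 : ∀ v w, B (e v) (M w) = 0 := fun v w => hBe v _ (by rw [hM, map_neg, hM, neg_neg])
    have hc1 : ∀ v w, B (T1 (P' v)) (T2 (M' w)) = 0 := fun v w => by
      by_cases e2 : (2 : F) = 0
      · have : M' w = 0 := Subtype.ext (hMzero e2 w)
        rw [this, map_zero, map_zero]
      · exact hcross y hy e2 _ _ (hy1 v) (hy2 w)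
    have hc2 : ∀ v w, B (P v) (M w) = 0 := fun v w => by
      by_cases e2 : (2 : F) = 0
      · rw [hMzero e2, map_zero]
      · exact hcross x hx e2 _ _ (hP v) (hM w)
    have flip : ∀ a b : V, B a b = 0 → B b a = 0 := fun a b e => by
      rw [← LinearMap.IsAlt.neg hA a b, e, neg_zero]
    conv_rhs => rw [hdec u, hdec v]
    simp only [map_add, LinearMap.add_apply, hSiso, hT1iso, hT2iso, s1, s2, r1, r2, hc1, hc2, flip _ _ (s1 v u),
      flip _ _ (s2 v u), flip _ _ (r1 v u), flip _ _ (r2 v u), flip _ _ (hc1 v u), flip _ _ (hc2 v u)]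
    rfl
  · simp only [LinearMap.add_apply, Module.End.mul_apply, LinearMap.comp_apply, map_add]
    have e1 : P' (x v) = P' v := Subtype.ext (hPx v)
    have e2 : M' (x v) = -M' v := Subtype.ext (hMx v)
    rw [hxe', hSx, e1, e2, map_neg, memU1'.1 (hT1 _), memU2'.1 (hT2 _)]

theorem isConj_symplecticGroup_iff {p : ℕ} [Fact p.Prime] [CharP F p] {m : ℕ}
    (A A' : Matrix.symplecticGroup (Fin m) F) (hA : (orderOf A).Coprime p) :
    IsConj A A' ↔ IsConj (A : Matrix (Fin m ⊕ Fin m) (Fin m ⊕ Fin m) F)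
      (A' : Matrix (Fin m ⊕ Fin m) (Fin m ⊕ Fin m) F) := by
  classical
  refine ⟨fun h => (Matrix.symplecticGroup (Fin m) F).subtype.map_isConj h, fun h => ?_⟩
  obtain ⟨c, hc⟩ := h
  have hr : ((orderOf A : ℕ) : F) ≠ 0 := fun e => by
    rw [CharP.cast_eq_zero_iff F p] at e
    exact (Fact.out : p.Prime).one_lt.ne' (Nat.eq_one_of_dvd_coprimes hA e dvd_rfl)
  have hord : (A : Matrix (Fin m ⊕ Fin m) (Fin m ⊕ Fin m) F) ^ orderOf A = 1 :=
    congrArg Subtype.val (pow_orderOf_eq_one A)
  have hord' : (A' : Matrix (Fin m ⊕ Fin m) (Fin m ⊕ Fin m) F) ^ orderOf A = 1 := by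
    have := hc.pow_right (orderOf A)
    rw [hord] at this
    exact c.isUnit.mul_right_cancel (this.eq.symm.trans (mul_one _) |>.trans (one_mul _).symm)
  let g : (Fin m ⊕ Fin m → F) ≃ₗ[F] (Fin m ⊕ Fin m → F) :=
    LinearEquiv.ofLinearMap (Matrix.toLin' (c : Matrix (Fin m ⊕ Fin m) (Fin m ⊕ Fin m) F))
      (Matrix.toLin' ((c⁻¹ : (Matrix (Fin m ⊕ Fin m) (Fin m ⊕ Fin m) F)ˣ) : Matrix (Fin m ⊕ Fin m) (Fin m ⊕ Fin m) F))
      (by rw [← Matrix.toLin'_mul, Units.mul_inv, Matrix.toLin'_one])
      (by rw [← Matrix.toLin'_mul, Units.inv_mul, Matrix.toLin'_one])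
  have hpres : ∀ (Z : Matrix.symplecticGroup (Fin m) F) u v,
      Forms.sympBilin m F (Matrix.toLin' (Z : Matrix (Fin m ⊕ Fin m) (Fin m ⊕ Fin m) F) u)
        (Matrix.toLin' (Z : Matrix (Fin m ⊕ Fin m) (Fin m ⊕ Fin m) F) v) = Forms.sympBilin m F u v :=
    fun Z u v => by
      simp only [Matrix.toLin'_apply, Forms.sympBilin_apply]
      exact Forms.mem_symplecticGroup_iff_preserves.1 Z.2 u v
  have hal : ∀ a b, -Forms.sympBilin m F a b = Forms.sympBilin m F b a := fun a b =>
    LinearMap.BilinForm.IsAlt.neg_eq Forms.sympBilin_isAlt a b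
  have hnd : (Forms.sympBilin m F).Nondegenerate :=
    ⟨Forms.sympBilin_goodForm.nondeg, fun u hu => Forms.sympBilin_goodForm.nondeg u fun v => by
      rw [← hal v u, hu, neg_zero]⟩
  obtain ⟨T, hT, hTx⟩ := exists_symp_intertwiner (B := Forms.sympBilin m F) Forms.sympBilin_isAlt hnd hr
    (x := Matrix.toLin' (A : Matrix (Fin m ⊕ Fin m) (Fin m ⊕ Fin m) F))
    (y := Matrix.toLin' (A' : Matrix (Fin m ⊕ Fin m) (Fin m ⊕ Fin m) F))
    (by rw [← Matrix.toLin'_pow, hord, Matrix.toLin'_one]; rfl)
    (by rw [← Matrix.toLin'_pow, hord', Matrix.toLin'_one]; rfl)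
    (hpres A) (hpres A') g (fun v => by
      show Matrix.toLin' _ (Matrix.toLin' _ v) = Matrix.toLin' _ (Matrix.toLin' _ v)
      rw [← Matrix.toLin'_mul_apply, ← Matrix.toLin'_mul_apply, hc.eq])
  have hW : LinearMap.toMatrix' T ∈ Matrix.symplecticGroup (Fin m) F := by
    rw [Forms.mem_symplecticGroup_iff_preserves]
    intro u v
    have := hT u v
    simp only [Forms.sympBilin_apply] at this
    rwa [LinearMap.toMatrix'_mulVec, LinearMap.toMatrix'_mulVec]
  refine isConj_iff.2 ⟨⟨_, hW⟩, mul_inv_eq_iff_eq_mul.2 (Subtype.ext (Matrix.ext_of_mulVec_single fun i => ?_))⟩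
  show (LinearMap.toMatrix' T * A.1) *ᵥ _ = (A'.1 * LinearMap.toMatrix' T) *ᵥ _
  rw [← Matrix.mulVec_mulVec, ← Matrix.mulVec_mulVec, LinearMap.toMatrix'_mulVec, LinearMap.toMatrix'_mulVec]
  exact hTx _

end Cfsg.Agent.Lib.Classical.ConjForms
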