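import Mathlib
import Cfsg.Agent.Lib.Classical.ConjForms.Closure
import Cfsg.Agent.Lib.Classical.UnitaryOrder

/-!
Conjugacy in `GU_n(q)` is conjugacy in `GL_n(q²)`; the classes meeting `GU_n(q)`.
-/

set_option autoImplicit false

namespace Cfsg.Agent.Lib.Classical.ConjForms

open Matrix

variable {K : Type*} [Field K] [Fintype K] {q n : ℕ} (hK : Fintype.card K = q ^ 2)

/-- conjugate transpose -/
noncomputable def ctr (hK : Fintype.card K = q ^ 2) (A : Matrix (Fin n) (Fin n) K) : Matrix (Fin n) (Fin n) K :=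
  (A.map (Forms.qPowHom hK))ᵀ

theorem ctr_eq (A : Matrix (Fin n) (Fin n) K) : ctr hK A = (A.map (fun x : K => x ^ q))ᵀ := by
  ext i j; simp [ctr]

theorem ctr_anti : AntiHom (ctr (n := n) hK) where
  add A B := by ext i j; simp [ctr, qpow_add hK]
  mul A B := by rw [ctr, Matrix.map_mul, transpose_mul]; rfl
  one := by simp [ctr, -Forms.qPowHom_apply]

theorem ctr_ctr (A : Matrix (Fin n) (Fin n) K) : ctr hK (ctr hK A) = A := by
  ext i j; simp [ctr, Forms.pow_q_pow_q hK]

theorem ctr_scalar (t : K) :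
    ctr hK (Matrix.scalar (Fin n) t) = Matrix.scalar (Fin n) (Forms.qPowHom hK t) := by
  simp [ctr, Matrix.scalar_apply, -Forms.qPowHom_apply, Matrix.diagonal_map]

theorem mem_GU_iff (g : GL (Fin n) K) :
    g ∈ Cfsg.GU n K q ↔ ctr hK (g : Matrix (Fin n) (Fin n) K) * (g : Matrix (Fin n) (Fin n) K) = 1 := by
  have hq : q ≠ 0 := by have := Forms.two_le_of_card_sq hK; omega
  constructor
  · intro hg
    set M := (g : Matrix (Fin n) (Fin n) K)
    have hM : Mᵀ * (Forms.qPowHom hK).mapMatrix M = 1 := by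
      ext i j
      have h := hg (Pi.single i 1) (Pi.single j 1)
      rw [Matrix.mul_apply, Matrix.one_apply]
      simp only [RingHom.mapMatrix_apply, Matrix.map_apply, Matrix.transpose_apply, Forms.qPowHom_apply]
      simp only [Cfsg.hermForm, Units.coeHom_apply, Matrix.mulVec_single, MulOpposite.op_one, one_smul,
        Pi.single_apply, ite_pow, one_pow, zero_pow hq, mul_ite, mul_one, mul_zero,
        Finset.sum_ite_eq', Finset.mem_univ, if_true, Matrix.col_apply] at h
      exact h.trans (by simp only [eq_comm])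
    have h3 := congrArg (Forms.qPowHom hK).mapMatrix hM
    rw [map_mul, map_one] at h3
    have e1 : (Forms.qPowHom hK).mapMatrix ((Forms.qPowHom hK).mapMatrix M) = M :=
      Matrix.ext fun i j => by simp [Forms.pow_q_pow_q hK]
    rw [e1] at h3
    exact h3
  · intro hg u v
    set M := (g : Matrix (Fin n) (Fin n) K)
    have hform : ∀ u v : Fin n → K, Cfsg.hermForm n K q u v = u ⬝ᵥ (fun i => Forms.qPowHom hK (v i)) := by
      intro u v; simp [Cfsg.hermForm, dotProduct]
    have hg' : Mᵀ * (Forms.qPowHom hK).mapMatrix M = 1 := by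
      have h := congrArg (Forms.qPowHom hK).mapMatrix hg
      rw [map_mul, map_one] at h
      rwa [show (Forms.qPowHom hK).mapMatrix (ctr hK M) = Mᵀ from
        Matrix.ext fun i j => by simp [ctr, Forms.pow_q_pow_q hK]] at h
    show Cfsg.hermForm n K q (M *ᵥ u) (M *ᵥ v) = _
    rw [hform, hform, show (fun i => Forms.qPowHom hK ((M *ᵥ v) i))
      = (Forms.qPowHom hK).mapMatrix M *ᵥ (fun i => Forms.qPowHom hK (v i)) from
        funext fun i => RingHom.map_mulVec _ _ _ i,
      Matrix.dotProduct_mulVec, ← Matrix.mulVec_transpose, Matrix.mulVec_mulVec,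
      show ((Forms.qPowHom hK).mapMatrix M)ᵀ * M = (Mᵀ * (Forms.qPowHom hK).mapMatrix M)ᵀ by
        rw [transpose_mul, transpose_transpose],
      hg', transpose_one, one_mulVec]

theorem exists_skew_scalar :
    ∃ t : K, IsUnit (Matrix.scalar (Fin n) t - ctr hK (Matrix.scalar (Fin n) t)) := by
  obtain ⟨t, ht⟩ : ∃ t : K, Forms.qPowHom hK t ≠ t := by
    by_contra hne
    push Not at hne
    exact Forms.qPowHom_ne_id hK (RingHom.ext hne)
  refine ⟨t, ?_⟩
  rw [ctr_scalar, ← map_sub]
  exact (Ne.isUnit (sub_ne_zero.2 (Ne.symm ht))).map _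

theorem commStable_pair {t : K} {a : Matrix (Fin n) (Fin n) K} (ha : ctr hK a = a) :
    CommStable (ctr hK) {Matrix.scalar (Fin n) t, Matrix.scalar (Fin n) (Forms.qPowHom hK t), a} := by
  have hsc : ∀ (r : K) (X : Matrix (Fin n) (Fin n) K), Matrix.scalar (Fin n) r * X = X * Matrix.scalar (Fin n) r :=
    fun r X => (Matrix.scalar_commute r (fun r' => Commute.all r r') X).eq
  refine ⟨ctr_anti hK, ?_, ?_, fun x _ => ctr_ctr hK x⟩
  · rintro x (rfl | rfl | rfl) y (rfl | rfl | rfl) <;> first | rfl | exact hsc _ _ | exact (hsc _ _).symm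
  · rintro x (rfl | rfl | rfl)
    · rw [ctr_scalar]; exact Subring.subset_closure (by simp)
    · rw [ctr_scalar, Forms.qPowHom_apply, Forms.qPowHom_apply, Forms.pow_q_pow_q hK]
      exact Subring.subset_closure (by simp)
    · rw [ha]; exact Subring.subset_closure (by simp)

/-- Hermitian units are norms, inside what they generate with the scalars -/
theorem exists_hermitian_factor {a : Matrix (Fin n) (Fin n) K} (ha : ctr hK a = a) (hu : IsUnit a) :
    ∃ z, IsUnit z ∧ ctr hK z * z = a ∧ ∀ x, Commute a x → Commute z x := by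
  obtain ⟨t, ht⟩ := exists_skew_scalar (n := n) hK
  have hS := commStable_pair hK (t := t) ha
  obtain ⟨z, hz, hzu, he⟩ := hS.exists_norm (Subring.subset_closure (by simp)) ht
    (Subring.subset_closure (by simp)) ha hu
  refine ⟨z, hzu, he, fun x hx => commute_closure ?_ hz⟩
  rintro y (rfl | rfl | rfl)
  · exact Matrix.scalar_commute _ (fun r' => Commute.all _ r') x
  · exact Matrix.scalar_commute _ (fun r' => Commute.all _ r') x
  · exact hx

theorem ctr_unit_inv (g : (Matrix (Fin n) (Fin n) K)ˣ) :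
    ctr hK ((g⁻¹ : (Matrix (Fin n) (Fin n) K)ˣ) : Matrix (Fin n) (Fin n) K) * ctr hK g = 1 := by
  rw [← (ctr_anti hK).mul, Units.mul_inv, (ctr_anti hK).one]

include hK in
theorem isConj_GU_iff (A B : ↥(Cfsg.GU n K q)) :
    IsConj A B ↔ IsConj (A : GL (Fin n) K) (B : GL (Fin n) K) := by
  refine ⟨fun h => (Cfsg.GU n K q).subtype.map_isConj h, fun h => ?_⟩
  obtain ⟨g, hg⟩ := isConj_iff.1 h
  have hA := (mem_GU_iff hK A.1).1 A.2
  have hB := (mem_GU_iff hK B.1).1 B.2
  set M : Matrix (Fin n) (Fin n) K := (g : Matrix (Fin n) (Fin n) K) with hM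
  have hrel : M * (A.1 : Matrix (Fin n) (Fin n) K) = (B.1 : Matrix (Fin n) (Fin n) K) * M := by
    rw [mul_inv_eq_iff_eq_mul] at hg
    exact congrArg Units.val hg
  set a := ctr hK M * M with hadef
  have ha : ctr hK a = a := by rw [hadef, (ctr_anti hK).mul, ctr_ctr]
  have hau : IsUnit a := by
    refine IsUnit.mul ?_ g.isUnit
    exact IsUnit.of_mul_eq_one _ (by rw [← (ctr_anti hK).mul, Units.inv_mul, (ctr_anti hK).one])
  obtain ⟨z, hzu, hz, hzc⟩ := exists_hermitian_factor hK ha hau
  have hcomm : Commute a (A.1 : Matrix (Fin n) (Fin n) K) := by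
    show a * _ = _ * a
    have h1 : ctr hK (A.1 : Matrix (Fin n) (Fin n) K) * a * (A.1 : Matrix (Fin n) (Fin n) K) = a := by
      rw [hadef, ← mul_assoc, ← (ctr_anti hK).mul, mul_assoc, hrel, (ctr_anti hK).mul, mul_assoc,
        ← mul_assoc (ctr hK (B.1 : Matrix (Fin n) (Fin n) K)), hB, one_mul]
    rw [mul_eq_one_comm] at hA
    calc a * (A.1 : Matrix (Fin n) (Fin n) K)
        = ((A.1 : Matrix (Fin n) (Fin n) K) * ctr hK (A.1 : Matrix (Fin n) (Fin n) K)) * (a * (A.1 : Matrix (Fin n) (Fin n) K)) := by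
          rw [hA, one_mul]
      _ = (A.1 : Matrix (Fin n) (Fin n) K) * a := by
          rw [mul_assoc, ← mul_assoc (ctr hK _), h1]
  have hzA := hzc _ hcomm
  have hw : g * hzu.unit⁻¹ ∈ Cfsg.GU n K q := by
    rw [mem_GU_iff hK, Units.val_mul, (ctr_anti hK).mul, mul_assoc, ← mul_assoc (ctr hK M), ← hadef, ← hz,
      mul_assoc, IsUnit.mul_val_inv hzu, mul_one]
    exact ctr_unit_inv hK hzu.unit
  refine isConj_iff.2 ⟨⟨_, hw⟩, Subtype.ext ?_⟩
  show g * hzu.unit⁻¹ * A.1 * (g * hzu.unit⁻¹)⁻¹ = B.1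
  have hc : Commute hzu.unit A.1 := Units.ext hzA.eq
  rw [mul_assoc g, hc.inv_left.eq, ← hg]
  group

include hK in
theorem exists_GU_conj_iff (A : GL (Fin n) K) :
    (∃ B : ↥(Cfsg.GU n K q), IsConj A (B : GL (Fin n) K)) ↔
      IsConj (A : Matrix (Fin n) (Fin n) K)
        (((A : Matrix (Fin n) (Fin n) K).map (fun x : K => x ^ q)).transpose)⁻¹ := by
  set M : Matrix (Fin n) (Fin n) K := (A : Matrix (Fin n) (Fin n) K) with hM
  have hcu : IsUnit (ctr hK M) :=
    IsUnit.of_mul_eq_one _ (by rw [← (ctr_anti hK).mul, Units.inv_mul, (ctr_anti hK).one])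
  have hinv : (M.map (fun x : K => x ^ q))ᵀ⁻¹ = (hcu.unit⁻¹ : (Matrix (Fin n) (Fin n) K)ˣ) := by
    rw [← ctr_eq hK, Matrix.coe_units_inv, IsUnit.unit_spec]
  rw [hinv]
  constructor
  · rintro ⟨B, hB⟩
    obtain ⟨g, hg⟩ := isConj_iff.1 hB
    have hBu := (mem_GU_iff hK B.1).1 B.2
    -- `B` is the inverse of its conjugate transpose
    rw [← hg] at hBu
    simp only [Units.val_mul] at hBu
    rw [(ctr_anti hK).mul, (ctr_anti hK).mul, ← hM] at hBu
    set G : Matrix (Fin n) (Fin n) K := (g : Matrix (Fin n) (Fin n) K)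
    set G' : Matrix (Fin n) (Fin n) K := ((g⁻¹ : GL (Fin n) K) : Matrix (Fin n) (Fin n) K)
    -- `H = G† G` satisfies `M† H M = H`
    set H := ctr hK G * G with hH
    have h1 : ctr hK M * H * M = H := by
      have := congrArg (fun X => ctr hK G * X * G) hBu
      simp only [mul_one] at this
      have e1 : ctr hK G * ctr hK G' = 1 := by rw [← (ctr_anti hK).mul, Units.inv_mul, (ctr_anti hK).one]
      have e2 : G' * G = 1 := Units.inv_mul g
      rw [hH]
      refine Eq.trans ?_ this
      simp only [mul_assoc]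
      rw [e2, mul_one, ← mul_assoc (ctr hK G) (ctr hK G'), e1, one_mul]
    have hHu : IsUnit H := by
      refine IsUnit.mul ?_ g.isUnit
      exact IsUnit.of_mul_eq_one _ (by rw [← (ctr_anti hK).mul, Units.inv_mul, (ctr_anti hK).one])
    refine ⟨hHu.unit, ?_⟩
    show H * M = ((hcu.unit⁻¹ : (Matrix (Fin n) (Fin n) K)ˣ) : Matrix (Fin n) (Fin n) K) * H
    conv_rhs => rw [← h1]
    rw [← mul_assoc, ← mul_assoc, IsUnit.val_inv_mul hcu, one_mul]
  · rintro ⟨c, hc⟩
    set C : Matrix (Fin n) (Fin n) K := (c : Matrix (Fin n) (Fin n) K)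
    set C' : Matrix (Fin n) (Fin n) K := ((c⁻¹ : (Matrix (Fin n) (Fin n) K)ˣ) : Matrix (Fin n) (Fin n) K)
    have hCC' : C * C' = 1 := Units.mul_inv c
    have hC'C : C' * C = 1 := Units.inv_mul c
    have h1 : ctr hK M * C * M = C := by
      rw [mul_assoc, hc.eq, ← mul_assoc, IsUnit.mul_val_inv hcu, one_mul]
    have h2 : ctr hK M * ctr hK C * M = ctr hK C := by
      have := congrArg (ctr hK) h1
      rwa [(ctr_anti hK).mul, (ctr_anti hK).mul, ctr_ctr, ← mul_assoc] at this
    set u := C' * ctr hK C with hu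
    have hCd : ctr hK C' * ctr hK C = 1 := by rw [← (ctr_anti hK).mul, hCC', (ctr_anti hK).one]
    have hCd' : ctr hK C * ctr hK C' = 1 := by rw [← (ctr_anti hK).mul, hC'C, (ctr_anti hK).one]
    set u' := ctr hK C' * C with hu'
    have huu' : u * u' = 1 := by
      rw [hu, hu', mul_assoc, ← mul_assoc (ctr hK C), hCd', one_mul, hC'C]
    have hu'u : u' * u = 1 := mul_eq_one_comm.1 huu'
    have hMu : M * u = u * M := by
      have e1 : C' = M * C' * ctr hK M := by
        calc C' = C' * ctr hK M * C * M * C' * ctr hK M * (hcu.unit⁻¹ : (Matrix (Fin n) (Fin n) K)ˣ) := by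
              rw [mul_assoc C' (ctr hK M) C, mul_assoc C' _ M, h1, hC'C, one_mul, mul_assoc,
                IsUnit.mul_val_inv hcu, mul_one]
          _ = M * C' * ctr hK M := by
              have e0 : C' * ctr hK M * C * M = 1 := by
                rw [mul_assoc C' (ctr hK M) C, mul_assoc C' _ M, h1, hC'C]
              have e3 : (M * C' * ctr hK M) * C = 1 := by
                rw [mul_eq_one_comm] at e0
                rw [← e0]; simp only [mul_assoc]
              rw [e0, one_mul, mul_assoc, IsUnit.mul_val_inv hcu, mul_one]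
              calc C' = (M * C' * ctr hK M) * C * C' := by rw [e3, one_mul]
                _ = _ := by rw [mul_assoc, hCC', mul_one]
      calc M * u = M * C' * (ctr hK M * ctr hK C * M) := by rw [h2, hu, mul_assoc]
        _ = (M * C' * ctr hK M) * ctr hK C * M := by simp only [mul_assoc]
        _ = u * M := by rw [← e1]
    let d : Matrix (Fin n) (Fin n) K → Matrix (Fin n) (Fin n) K := fun x => C' * ctr hK x * C
    have hd : AntiHom d := by
      refine ⟨fun x y => ?_, fun x y => ?_, ?_⟩
      · simp only [d, (ctr_anti hK).add, mul_add, add_mul]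
      · simp only [d, (ctr_anti hK).mul, mul_assoc]
        rw [← mul_assoc C C', hCC', one_mul]
      · simp only [d, (ctr_anti hK).one, mul_one, hC'C]
    have hdu : d u = u' := by
      simp only [d, hu, hu', (ctr_anti hK).mul, ctr_ctr, ← mul_assoc, hC'C, one_mul]
    have hdu' : d u' = u := by
      simp only [d, hu, hu', (ctr_anti hK).mul, ctr_ctr, ← mul_assoc]
      rw [mul_assoc (C' * ctr hK C), hC'C, mul_one]
    obtain ⟨t, ht⟩ := exists_skew_scalar (n := n) hK
    have hsc : ∀ (r : K) (X : Matrix (Fin n) (Fin n) K), Matrix.scalar (Fin n) r * X = X * Matrix.scalar (Fin n) r :=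
      fun r X => (Matrix.scalar_commute r (fun r' => Commute.all r r') X).eq
    have hds : ∀ r, d (Matrix.scalar (Fin n) r) = ctr hK (Matrix.scalar (Fin n) r) := fun r => by
      simp only [d, ctr_scalar]
      rw [mul_assoc, hsc, ← mul_assoc, hC'C, one_mul]
    set S : Set (Matrix (Fin n) (Fin n) K) :=
      {Matrix.scalar (Fin n) t, Matrix.scalar (Fin n) (Forms.qPowHom hK t), u, u'} with hSdef
    have hS : CommStable d S := by
      refine ⟨hd, ?_, ?_, ?_⟩
      · rintro x (rfl | rfl | rfl | rfl) y (rfl | rfl | rfl | rfl) <;>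
          first | rfl | exact hsc _ _ | exact (hsc _ _).symm | exact huu'.trans hu'u.symm | exact hu'u.trans huu'.symm
      · rintro x (rfl | rfl | rfl | rfl)
        · rw [hds, ctr_scalar]; exact Subring.subset_closure (by simp [hSdef])
        · rw [hds, ctr_scalar, Forms.qPowHom_apply, Forms.qPowHom_apply, Forms.pow_q_pow_q hK]
          exact Subring.subset_closure (by simp [hSdef])
        · rw [hdu]; exact Subring.subset_closure (by simp [hSdef])
        · rw [hdu']; exact Subring.subset_closure (by simp [hSdef])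
      · rintro x (rfl | rfl | rfl | rfl)
        · rw [hds, ctr_scalar, hds, ctr_scalar, Forms.qPowHom_apply, Forms.qPowHom_apply, Forms.pow_q_pow_q hK]
        · rw [hds, ctr_scalar, hds, ctr_scalar]; simp [Forms.pow_q_pow_q hK]
        · rw [hdu, hdu']
        · rw [hdu', hdu]
    obtain ⟨z, hz, hzu, hze⟩ := hS.exists_hilbert90 (θ := Matrix.scalar (Fin n) t)
      (Subring.subset_closure (by simp [hSdef])) (by rw [hds]; exact ht) (u := u)
      (Subring.subset_closure (by simp [hSdef])) (by rw [hdu, huu'])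
    have hzM : Commute z M := by
      refine commute_closure ?_ hz
      rintro y (rfl | rfl | rfl | rfl)
      · exact hsc _ _
      · exact hsc _ _
      · exact hMu.symm
      · show u' * M = M * u'
        clear_value u u'
        calc u' * M = u' * (M * u) * u' := by rw [mul_assoc, mul_assoc, huu', mul_one]
          _ = u' * (u * M) * u' := by rw [hMu]
          _ = M * u' := by rw [← mul_assoc, hu'u, one_mul]
    have hH : ctr hK (C * z) = C * z := by
      conv_rhs => rw [← hze, hu]
      simp only [d, (ctr_anti hK).mul, ← mul_assoc, hCC', one_mul]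
      rw [mul_assoc (ctr hK z), hCC', mul_one]
    obtain ⟨g, hgu, hg, -⟩ := exists_hermitian_factor hK hH (c.isUnit.mul hzu)
    refine ⟨⟨hgu.unit * A * hgu.unit⁻¹, ?_⟩, isConj_iff.2 ⟨hgu.unit, rfl⟩⟩
    rw [mem_GU_iff hK, Units.val_mul, Units.val_mul, (ctr_anti hK).mul, (ctr_anti hK).mul, IsUnit.unit_spec,
      ← hM]
    simp only [mul_assoc]
    rw [← mul_assoc (ctr hK g), hg, ← mul_assoc (C * z), mul_assoc C z, hzM.eq, ← mul_assoc C,
      ← mul_assoc (ctr hK M), ← mul_assoc (ctr hK M), ← mul_assoc (ctr hK M), h1, ← hg, mul_assoc,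
      IsUnit.mul_val_inv hgu, mul_one]
    exact ctr_unit_inv hK hgu.unit

end Cfsg.Agent.Lib.Classical.ConjForms
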